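import Cfsg.Prelude.Def_CaseTheorems
import Cfsg.Prelude.Def_Involutions
import Cfsg.Agent.H39.Basic

/-!
If all maximal 2-local subgroups are conjugate, one of them is strongly embedded.
-/

set_option autoImplicit false

namespace Cfsg.Agent.H82.OneTwoLocal

open Subgroup

variable {G : Type*} [Group G] [Finite G]

/-- Conjugation of subgroups. -/
abbrev cj (g : G) (M : Subgroup G) : Subgroup G := M.map (MulAut.conj g).toMonoidHom

theorem mem_cj {g x : G} {M : Subgroup G} : x ∈ cj g M ↔ g⁻¹ * x * g ∈ M := by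
  constructor
  · rintro ⟨y, hy, rfl⟩
    simpa [mul_assoc] using hy
  · intro h
    exact ⟨g⁻¹ * x * g, h, by simp [mul_assoc]⟩

theorem cj_of_mem {g : G} {M : Subgroup G} (hg : g ∈ M) : cj g M = M := by
  ext x
  rw [mem_cj]
  exact ⟨fun h => by simpa [mul_assoc] using mul_mem (mul_mem hg h) (inv_mem hg),
    fun h => mul_mem (mul_mem (inv_mem hg) h) hg⟩

theorem exists_maximal_ge {N : Subgroup G} (hN : Cfsg.IsTwoLocal N) :
    ∃ M, Cfsg.IsMaximalTwoLocal M ∧ N ≤ M := by
  obtain ⟨M, hNM, hM⟩ :=
    Set.Finite.exists_le_maximal (Set.toFinite {X : Subgroup G | Cfsg.IsTwoLocal X}) hN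
  exact ⟨M, ⟨hM.prop, fun X hX hle => le_antisymm (hM.2 hX hle) hle⟩, hNM⟩

/-- A Sylow 2-subgroup inside `M` whose normalizer is in `M` detects `M` among its conjugates. -/
theorem mem_of_sylow_le {M : Subgroup G} (S : Sylow 2 G)
    (hN : normalizer ((S : Subgroup G) : Set G) ≤ M) {g : G} (h : (S : Subgroup G) ≤ cj g M) :
    g ∈ M := by
  haveI : Fact (Nat.Prime 2) := ⟨Nat.prime_two⟩
  have hSM : (S : Subgroup G) ≤ M := le_normalizer.trans hN
  obtain ⟨m, hm, hmS⟩ := H39.exists_conj_mem_le_sylow (p := 2)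
    (S.isPGroup'.map (MulAut.conj g⁻¹).toMonoidHom)
    (by rintro _ ⟨s, hs, rfl⟩; simpa [mul_assoc] using mem_cj.1 (h hs)) S hSM
  have h2 : m * g⁻¹ ∈ normalizer ((S : Subgroup G) : Set G) :=
    H39.mem_normalizer_of_conj_mem fun s hs => by
      simpa [mul_assoc] using hmS _ (mem_map_of_mem _ hs)
  have h3 : g⁻¹ ∈ M := by simpa [mul_assoc] using mul_mem (inv_mem hm) (hN h2)
  exact inv_mem_iff.1 h3

theorem stronglyEmbedded {M : Subgroup G} (hM : M ≠ ⊤) (S : Sylow 2 G)
    (hS : (S : Subgroup G) ≠ ⊥) (hN : normalizer ((S : Subgroup G) : Set G) ≤ M)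
    (hconj : ∀ M' : Subgroup G, Cfsg.IsMaximalTwoLocal M' → ∃ g : G, M' = cj g M) :
    Cfsg.IsStronglyEmbedded M := by
  haveI : Fact (Nat.Prime 2) := ⟨Nat.prime_two⟩
  have hSM : (S : Subgroup G) ≤ M := le_normalizer.trans hN
  -- no 2-subgroup other than `1` lies in `M` and in a second conjugate
  have key : ∀ k : ℕ, ∀ D : Subgroup G, IsPGroup 2 D → D ≠ ⊥ → D ≤ M →
      Nat.card (S : Subgroup G) - Nat.card D ≤ k → ∀ g : G, D ≤ cj g M → g ∈ M := by
    intro k
    induction k using Nat.strong_induction_on with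
    | _ k ih =>
      intro D hD hD1 hDM hk g hDg
      obtain ⟨m, hm, hmS⟩ := H39.exists_conj_mem_le_sylow hD hDM S hSM
      have hle : Nat.card D ≤ Nat.card (S : Subgroup G) := by
        rw [← H39.card_map_conj D m]
        exact Subgroup.card_le_of_le (by rintro _ ⟨d, hd, rfl⟩; simpa using hmS d hd)
      rcases hle.eq_or_lt with heq | hlt
      · -- `D` is a Sylow 2-subgroup: conjugate it onto `S`
        have hDS : cj m D = (S : Subgroup G) := Subgroup.eq_of_le_of_card_ge
          (by rintro _ ⟨d, hd, rfl⟩; simpa using hmS d hd) (by rw [H39.card_map_conj]; omega)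
        have h1 : (S : Subgroup G) ≤ cj (m * g) M := by
          rw [← hDS]
          rintro _ ⟨d, hd, rfl⟩
          have := mem_cj.1 (hDg hd)
          rw [mem_cj]
          simpa [mul_assoc] using this
        simpa [mul_assoc] using mul_mem (inv_mem hm) (mem_of_sylow_le S hN h1)
      · -- a larger 2-subgroup inside a conjugate containing `D`
        have grow : ∀ a : G, D ≤ cj a M → ∃ E : Subgroup G,
            IsPGroup 2 E ∧ Nat.card D < Nat.card E ∧ D ≤ E ∧
              E ≤ cj a M ∧ E ≤ normalizer (D : Set G) := by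
          intro a hDa
          have hD' : IsPGroup 2 ↥(cj a⁻¹ D) := hD.map _
          obtain ⟨n, hn, hnS⟩ := H39.exists_conj_mem_le_sylow hD'
            (by rintro _ ⟨d, hd, rfl⟩; simpa [mul_assoc] using mem_cj.1 (hDa hd)) S hSM
          -- `P` is a Sylow subgroup of `G` in `cj a M` containing `D`
          set P := cj (a * n⁻¹) (S : Subgroup G) with hPdef
          have hDP : D ≤ P := fun d hd => by
            rw [hPdef, mem_cj]
            simpa [mul_assoc] using hnS _ (mem_map_of_mem _ hd)
          have hPM : P ≤ cj a M := fun x hx => by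
            have h1 : (a * n⁻¹)⁻¹ * x * (a * n⁻¹) ∈ M := hSM (mem_cj.1 hx)
            rw [mem_cj]
            simpa [mul_assoc] using mul_mem (mul_mem (inv_mem hn) h1) hn
          have hP : IsPGroup 2 P := S.isPGroup'.map _
          haveI : Group.IsNilpotent P := hP.isNilpotent
          have hne : D.subgroupOf P < ⊤ := lt_top_iff_ne_top.2 fun e => by
            have := Subgroup.card_le_of_le (subgroupOf_eq_top.1 e)
            rw [hPdef, H39.card_map_conj] at this
            omega
          have hlt' := Group.normalizerCondition_of_isNilpotent _ hne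
          refine ⟨P ⊓ normalizer (D : Set G), hP.to_le inf_le_left, ?_,
            le_inf hDP le_normalizer, inf_le_left.trans hPM, inf_le_right⟩
          refine lt_of_le_of_ne (Subgroup.card_le_of_le (le_inf hDP le_normalizer)) fun e => ?_
          have hEq := Subgroup.eq_of_le_of_card_ge (le_inf hDP le_normalizer) e.ge
          obtain ⟨x, hx, hxD⟩ := SetLike.exists_of_lt hlt'
          refine hxD ?_
          rw [mem_subgroupOf, hEq]
          refine ⟨x.2, mem_normalizer_iff.2 fun d => ?_⟩
          have hx' := mem_normalizer_iff.1 hx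
          constructor
          · intro hd
            exact (hx' ⟨d, hDP hd⟩).1 hd
          · intro hd
            have hdP : d ∈ P := by
              have := mul_mem (mul_mem (inv_mem x.2) (hDP hd)) x.2
              simpa [mul_assoc] using this
            exact (hx' ⟨d, hdP⟩).2 hd
        obtain ⟨M', hM', hle'⟩ := exists_maximal_ge (N := normalizer (D : Set G))
          ⟨D, hD, hD1, rfl⟩
        obtain ⟨b, rfl⟩ := hconj M' hM'
        obtain ⟨E, hE, hDE, -, hEM, hEN⟩ := grow 1 (by rw [cj_of_mem (one_mem M)]; exact hDM)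
        rw [cj_of_mem (one_mem M)] at hEM
        have hb : b ∈ M := ih (Nat.card (S : Subgroup G) - Nat.card E) (by omega) E hE
          (fun e => by rw [e, card_bot] at hDE; have := Nat.card_pos (α := D); omega)
          hEM le_rfl b (hEN.trans hle')
        rw [cj_of_mem hb] at hle'
        obtain ⟨E', hE', hDE', -, hEg, hEN'⟩ := grow g hDg
        exact ih (Nat.card (S : Subgroup G) - Nat.card E') (by omega) E' hE'
          (fun e => by rw [e, card_bot] at hDE'; have := Nat.card_pos (α := D); omega)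
          (hEN'.trans hle') le_rfl g hEg
  refine ⟨hM, ?_, fun g hg => ?_⟩
  · obtain ⟨z, hz, hz1⟩ := (S : Subgroup G).bot_or_exists_ne_one.resolve_left hS
    obtain ⟨k, hk⟩ := IsPGroup.iff_card.1 S.isPGroup'
    have hk0 : k ≠ 0 := fun e => hS (Subgroup.card_eq_one.1 (by rw [hk, e, pow_zero]))
    exact even_iff_two_dvd.2 ((hk ▸ dvd_pow_self 2 hk0).trans (Subgroup.card_dvd_of_le hSM))
  · by_contra hodd
    rw [Nat.not_odd_iff_even, even_iff_two_dvd] at hodd
    obtain ⟨t, ht⟩ := exists_prime_orderOf_dvd_card' 2 hodd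
    have hD : IsPGroup 2 ↥(zpowers (t : G)) := IsPGroup.of_card (n := 1)
      (by rw [Nat.card_zpowers, orderOf_coe, ht, pow_one])
    have hD1 : zpowers (t : G) ≠ ⊥ := fun e => by
      rw [zpowers_eq_bot] at e
      rw [← orderOf_coe, e, orderOf_one] at ht
      omega
    exact hg (key _ _ hD hD1 (zpowers_le.2 t.2.1) le_rfl g (zpowers_le.2 t.2.2))

end Cfsg.Agent.H82.OneTwoLocal
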